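import Groth.Agent.FlatLocal.FlatAt
import Groth.Agent.FlatCrit.Inj
import Mathlib.AlgebraicGeometry.Morphisms.Etale
import Mathlib.RingTheory.Unramified.LocalRing

/-!
# Unramified and étale near a point in terms of the stalk map
-/

set_option autoImplicit false
set_option backward.isDefEq.respectTransparency.types false
universe u

namespace Groth.Agent.FlatLocal

open CategoryTheory AlgebraicGeometry

variable {X Y : Scheme.{u}} (f : X ⟶ Y)

/-- An affine neighbourhood, with the stalk as a localization, on which properties of the stalk are read off. -/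
theorem exists_chart (x : X) : ∃ (W : Y.Opens) (_ : IsAffineOpen W) (V : X.Opens) (hV : IsAffineOpen V)
    (_ : f x ∈ W) (hxV : x ∈ V), V ≤ f ⁻¹ᵁ W := by
  obtain ⟨W, hW, hxW, -⟩ := exists_isAffineOpen_mem_and_subset (x := f x) (U := ⊤) trivial
  obtain ⟨V, hV, hxV, e⟩ := exists_isAffineOpen_mem_and_subset (x := x) (U := f ⁻¹ᵁ W) hxW
  exact ⟨W, hW, V, hV, hxW, hxV, e⟩

/-- A morphism restricted to a basic open has a property as soon as the corresponding algebra has it. -/
theorem prop_basicOpen {P : MorphismProperty Scheme.{u}}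
    {Q : ∀ {R S : Type u} [CommRing R] [CommRing S], (R →+* S) → Prop} [HasRingHomProperty P Q]
    [P.IsStableUnderComposition] (hP : ∀ {A B : Scheme.{u}} (ι : A ⟶ B) [IsOpenImmersion ι], P ι)
    {W : Y.Opens} (hW : IsAffineOpen W) {V : X.Opens} (hV : IsAffineOpen V) (e : V ≤ f ⁻¹ᵁ W) (s : Γ(X, V))
    (hQ : letI := (f.appLE W V e).hom.toAlgebra; Q (algebraMap Γ(Y, W) (Localization.Away s))) :
    P ((X.basicOpen s).ι ≫ f) := by
  haveI : IsAffine (W : Scheme) := hW
  haveI : IsAffine (X.basicOpen s : Scheme) := hV.basicOpen s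
  have e' : X.basicOpen s ≤ f ⁻¹ᵁ W := (X.basicOpen_le s).trans e
  rw [← f.resLE_comp_ι e']
  refine P.comp_mem _ _ ?_ (hP _)
  have hQi := (HasRingHomProperty.isLocal_ringHomProperty P).respectsIso
  rw [HasRingHomProperty.iff_of_isAffine (P := P), hQi.arrow_mk_iso_iff (arrowResLEAppIso f W (X.basicOpen s) e')]
  letI := (f.appLE W V e).hom.toAlgebra
  letI : Algebra Γ(X, V) Γ(X, X.basicOpen s) := (X.presheaf.map (homOfLE (X.basicOpen_le s)).op).hom.toAlgebra
  haveI := hV.isLocalization_basicOpen s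
  letI : Algebra Γ(Y, W) Γ(X, X.basicOpen s) := (f.appLE W (X.basicOpen s) e').hom.toAlgebra
  haveI : IsScalarTower Γ(Y, W) Γ(X, V) Γ(X, X.basicOpen s) :=
    IsScalarTower.of_algebraMap_eq' (congrArg CommRingCat.Hom.hom (Scheme.Hom.appLE_map f e (homOfLE (X.basicOpen_le s)).op).symm)
  let eq := (IsLocalization.algEquiv (Submonoid.powers s) (Localization.Away s) Γ(X, X.basicOpen s)).restrictScalars Γ(Y, W)
  have := hQi.left _ eq.toRingEquiv hQ
  convert! this using 1
  exact eq.toAlgHom.comp_algebraMap.symm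

theorem formallyUnramified_stalkMap_of_nhd {x : X} {U : X.Opens} (hx : x ∈ U) [FormallyUnramified (U.ι ≫ f)] :
    (f.stalkMap x).hom.FormallyUnramified := by
  have h := FormallyUnramified.stalkMap (U.ι ≫ f) (⟨x, hx⟩ : (U : Scheme))
  rw [Scheme.Hom.stalkMap_comp] at h
  haveI : IsIso (U.ι.stalkMap (⟨x, hx⟩ : (U : Scheme))) := inferInstance
  exact (RingHom.FormallyUnramified.respectsIso.cancel_right_isIso (f.stalkMap (U.ι (⟨x, hx⟩ : (U : Scheme)))) (U.ι.stalkMap (⟨x, hx⟩ : (U : Scheme)))).mp h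

/-- Data of the stalk map in an affine chart. -/
theorem isUnramifiedAt_of_stalkMap {x : X} {W : Y.Opens} (hW : IsAffineOpen W) {V : X.Opens} (hV : IsAffineOpen V)
    (e : V ≤ f ⁻¹ᵁ W) (hxV : x ∈ V) (h : (f.stalkMap x).hom.FormallyUnramified) :
    letI := (f.appLE W V e).hom.toAlgebra
    Algebra.IsUnramifiedAt Γ(Y, W) (hV.primeIdealOf ⟨x, hxV⟩).asIdeal := by
  letI := (f.appLE W V e).hom.toAlgebra
  letI : Algebra Γ(X, V) (X.presheaf.stalk x) := TopCat.Presheaf.algebra_section_stalk X.presheaf ⟨x, hxV⟩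
  letI : Algebra Γ(Y, W) (Y.presheaf.stalk (f x)) := TopCat.Presheaf.algebra_section_stalk Y.presheaf ⟨f x, e hxV⟩
  haveI : IsLocalization.AtPrime (Y.presheaf.stalk (f x)) (hW.primeIdealOf ⟨f x, e hxV⟩).asIdeal :=
    hW.isLocalization_stalk ⟨f x, e hxV⟩
  haveI : IsLocalization.AtPrime (X.presheaf.stalk x) (hV.primeIdealOf ⟨x, hxV⟩).asIdeal :=
    hV.isLocalization_stalk ⟨x, hxV⟩
  letI : Algebra (Y.presheaf.stalk (f x)) (X.presheaf.stalk x) := (f.stalkMap x).hom.toAlgebra
  letI : Algebra Γ(Y, W) (X.presheaf.stalk x) :=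
    ((algebraMap Γ(X, V) (X.presheaf.stalk x)).comp (algebraMap Γ(Y, W) Γ(X, V))).toAlgebra
  haveI : IsScalarTower Γ(Y, W) Γ(X, V) (X.presheaf.stalk x) := IsScalarTower.of_algebraMap_eq' rfl
  haveI : IsScalarTower Γ(Y, W) (Y.presheaf.stalk (f x)) (X.presheaf.stalk x) := by
    refine IsScalarTower.of_algebraMap_eq' ?_
    have h2 : Y.presheaf.germ W (f x) (e hxV) ≫ f.stalkMap x = f.appLE W V e ≫ X.presheaf.germ V x hxV := by
      simp only [Scheme.Hom.germ_stalkMap, Scheme.Hom.appLE, Category.assoc, TopCat.Presheaf.germ_res]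
    exact (congrArg CommRingCat.Hom.hom h2).symm
  haveI : Algebra.FormallyUnramified Γ(Y, W) (Y.presheaf.stalk (f x)) :=
    .of_isLocalization (hW.primeIdealOf ⟨f x, e hxV⟩).asIdeal.primeCompl
  haveI : Algebra.FormallyUnramified (Y.presheaf.stalk (f x)) (X.presheaf.stalk x) := h
  haveI : Algebra.FormallyUnramified Γ(Y, W) (X.presheaf.stalk x) :=
    .comp _ (Y.presheaf.stalk (f x)) _
  exact Algebra.FormallyUnramified.of_equiv
    ((IsLocalization.algEquiv (hV.primeIdealOf ⟨x, hxV⟩).asIdeal.primeCompl (X.presheaf.stalk x)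
      (Localization.AtPrime (hV.primeIdealOf ⟨x, hxV⟩).asIdeal)).restrictScalars Γ(Y, W))

theorem mem_basicOpen_of_notMem {x : X} {V : X.Opens} (hV : IsAffineOpen V) (hxV : x ∈ V) {s : Γ(X, V)}
    (hs : s ∉ (hV.primeIdealOf ⟨x, hxV⟩).asIdeal) : x ∈ X.basicOpen s := by
  have h : hV.primeIdealOf ⟨x, hxV⟩ ∈ hV.fromSpec ⁻¹ᵁ X.basicOpen s := by
    rw [hV.fromSpec_preimage_basicOpen]; exact hs
  have h2 : hV.fromSpec (hV.primeIdealOf ⟨x, hxV⟩) ∈ X.basicOpen s := h
  rwa [hV.fromSpec_primeIdealOf ⟨x, hxV⟩] at h2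

theorem formallyUnramified_nhd_iff [LocallyOfFiniteType f] (x : X) :
    (∃ U : X.Opens, x ∈ U ∧ FormallyUnramified (U.ι ≫ f)) ↔ (f.stalkMap x).hom.FormallyUnramified := by
  refine ⟨fun ⟨U, hx, _⟩ => formallyUnramified_stalkMap_of_nhd f hx, fun h => ?_⟩
  obtain ⟨W, hW, V, hV, hxW, hxV, e⟩ := exists_chart f x
  have hft : (f.appLE W V e).hom.FiniteType :=
    HasRingHomProperty.appLE @LocallyOfFiniteType f inferInstance ⟨W, hW⟩ ⟨V, hV⟩ e
  haveI := isUnramifiedAt_of_stalkMap f hW hV e hxV h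
  algebraize [(f.appLE W V e).hom]
  obtain ⟨s, hs, hsu⟩ := Algebra.exists_formallyUnramified_of_isUnramifiedAt (R := Γ(Y, W))
    (hV.primeIdealOf ⟨x, hxV⟩).asIdeal
  exact ⟨X.basicOpen s, mem_basicOpen_of_notMem hV hxV hs,
    prop_basicOpen (P := @FormallyUnramified) f (fun ι _ => inferInstance) hW hV e s
      (RingHom.formallyUnramified_algebraMap.mpr hsu)⟩

theorem formallyUnramified_iff_stalkMap [LocallyOfFiniteType f] :
    FormallyUnramified f ↔ ∀ x : X, (f.stalkMap x).hom.FormallyUnramified := by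
  refine ⟨fun _ x => FormallyUnramified.stalkMap f x, fun h => ?_⟩
  choose U hx hU using fun x => (formallyUnramified_nhd_iff f x).mpr (h x)
  exact IsZariskiLocalAtSource.of_iSup_eq_top U (TopologicalSpace.Opens.ext (Set.eq_univ_of_forall fun x =>
    by simpa using ⟨x, hx x⟩)) hU

theorem etale_nhd_iff [LocallyOfFinitePresentation f] (x : X) :
    (∃ U : X.Opens, x ∈ U ∧ Etale (U.ι ≫ f)) ↔
      (f.stalkMap x).hom.Flat ∧ (f.stalkMap x).hom.FormallyUnramified := by
  constructor
  · rintro ⟨U, hx, hU⟩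
    refine ⟨?_, formallyUnramified_stalkMap_of_nhd f hx⟩
    have h := Flat.stalkMap (U.ι ≫ f) (⟨x, hx⟩ : (U : Scheme))
    rw [Scheme.Hom.stalkMap_comp] at h
    haveI : IsIso (U.ι.stalkMap (⟨x, hx⟩ : (U : Scheme))) := inferInstance
    exact (RingHom.Flat.respectsIso.cancel_right_isIso (f.stalkMap (U.ι (⟨x, hx⟩ : (U : Scheme)))) (U.ι.stalkMap (⟨x, hx⟩ : (U : Scheme)))).mp h
  · rintro ⟨hfl, h⟩
    obtain ⟨W, hW, V, hV, hxW, hxV, e⟩ := exists_chart f x
    have hfp : (f.appLE W V e).hom.FinitePresentation :=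
      HasRingHomProperty.appLE @LocallyOfFinitePresentation f inferInstance ⟨W, hW⟩ ⟨V, hV⟩ e
    haveI := isUnramifiedAt_of_stalkMap f hW hV e hxV h
    algebraize [(f.appLE W V e).hom]
    let p := (hV.primeIdealOf ⟨x, hxV⟩).asIdeal
    haveI : Module.Flat Γ(Y, W) (Localization.AtPrime p) := by
      letI : Algebra Γ(X, V) (X.presheaf.stalk x) := TopCat.Presheaf.algebra_section_stalk X.presheaf ⟨x, hxV⟩
      haveI : IsLocalization.AtPrime (X.presheaf.stalk x) p := hV.isLocalization_stalk ⟨x, hxV⟩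
      letI : Algebra Γ(Y, W) (X.presheaf.stalk x) :=
        ((algebraMap Γ(X, V) (X.presheaf.stalk x)).comp (algebraMap Γ(Y, W) Γ(X, V))).toAlgebra
      haveI : IsScalarTower Γ(Y, W) Γ(X, V) (X.presheaf.stalk x) := IsScalarTower.of_algebraMap_eq' rfl
      have h2 : Y.presheaf.germ W (f x) (e hxV) ≫ f.stalkMap x = f.appLE W V e ≫ X.presheaf.germ V x hxV := by
        simp only [Scheme.Hom.germ_stalkMap, Scheme.Hom.appLE, Category.assoc, TopCat.Presheaf.germ_res]
      have hgf : (Y.presheaf.germ W (f x) (e hxV)).hom.Flat := by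
        letI : Algebra Γ(Y, W) (Y.presheaf.stalk (f x)) := TopCat.Presheaf.algebra_section_stalk Y.presheaf ⟨f x, e hxV⟩
        haveI : IsLocalization.AtPrime (Y.presheaf.stalk (f x)) (hW.primeIdealOf ⟨f x, e hxV⟩).asIdeal :=
          hW.isLocalization_stalk ⟨f x, e hxV⟩
        exact IsLocalization.flat (Y.presheaf.stalk (f x)) (hW.primeIdealOf ⟨f x, e hxV⟩).asIdeal.primeCompl
      have h3 : (f.appLE W V e ≫ X.presheaf.germ V x hxV).hom.Flat := h2 ▸ RingHom.Flat.comp hgf hfl
      haveI : Module.Flat Γ(Y, W) (X.presheaf.stalk x) := h3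
      exact Module.Flat.of_linearEquiv ((IsLocalization.algEquiv p.primeCompl (Localization.AtPrime p)
        (X.presheaf.stalk x)).restrictScalars Γ(Y, W)).toLinearEquiv
    haveI := isEtaleAt_of_flatAt (R := Γ(Y, W)) p
    obtain ⟨s, hs, hse⟩ := Algebra.exists_etale_of_isEtaleAt (R := Γ(Y, W)) p
    exact ⟨X.basicOpen s, mem_basicOpen_of_notMem hV hxV hs,
      prop_basicOpen (P := @Etale) f (fun ι _ => inferInstance) hW hV e s
        (RingHom.etale_algebraMap.mpr hse)⟩

theorem etale_iff_stalkMap [LocallyOfFinitePresentation f] :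
    Etale f ↔ ∀ x : X, (f.stalkMap x).hom.Flat ∧ (f.stalkMap x).hom.FormallyUnramified := by
  refine ⟨fun _ x => ⟨Flat.stalkMap f x, FormallyUnramified.stalkMap f x⟩, fun h => ?_⟩
  choose U hx hU using fun x => (etale_nhd_iff f x).mpr (h x)
  exact IsZariskiLocalAtSource.of_iSup_eq_top U (TopologicalSpace.Opens.ext (Set.eq_univ_of_forall fun x =>
    by simpa using ⟨x, hx x⟩)) hU

/-- The criterion `𝔪 S = 𝔪_S` plus separable residue extension, for stalks. -/
theorem formallyUnramified_stalkMap_iff [LocallyOfFiniteType f] (x : X) :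
    (f.stalkMap x).hom.FormallyUnramified ↔
      (letI := (f.residueFieldMap x).hom.toAlgebra
       Algebra.IsSeparable (Y.residueField (f x)) (X.residueField x)) ∧
      (IsLocalRing.maximalIdeal (Y.presheaf.stalk (f x))).map (f.stalkMap x).hom =
        IsLocalRing.maximalIdeal (X.presheaf.stalk x) := by
  algebraize [(f.stalkMap x).hom]
  haveI : IsLocalHom (algebraMap (Y.presheaf.stalk (f x)) (X.presheaf.stalk x)) :=
    inferInstanceAs <| IsLocalHom (f.stalkMap x).hom
  haveI : Algebra.EssFiniteType (Y.presheaf.stalk (f x)) (X.presheaf.stalk x) := by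
    rw [← RingHom.essFiniteType_algebraMap, RingHom.algebraMap_toAlgebra]
    exact LocallyOfFiniteType.stalkMap f x
  rw [show (f.stalkMap x).hom = algebraMap (Y.presheaf.stalk (f x)) (X.presheaf.stalk x) from rfl,
    RingHom.formallyUnramified_algebraMap, Algebra.FormallyUnramified.iff_map_maximalIdeal_eq]
  refine and_congr_left fun _ => ?_
  have he : (inferInstance : Algebra (IsLocalRing.ResidueField (Y.presheaf.stalk (f x)))
      (IsLocalRing.ResidueField (X.presheaf.stalk x))) = (f.residueFieldMap x).hom.toAlgebra := by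
    refine Algebra.algebra_ext _ _ fun z ↦ ?_
    obtain ⟨z, rfl⟩ := IsLocalRing.residue_surjective z
    rfl
  exact iff_of_eq (congrArg (fun a => @Algebra.IsSeparable _ _ _ _ a) he)

/-- Descent of unramifiedness along a flat local homomorphism. -/
theorem formallyUnramified_of_flat_comp {A B C : Type u} [CommRing A] [CommRing B] [CommRing C]
    [IsLocalRing A] [IsLocalRing B] [IsLocalRing C] [Algebra A B] [Algebra B C] [Algebra A C]
    [IsScalarTower A B C] [IsLocalHom (algebraMap A B)] [IsLocalHom (algebraMap B C)]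
    [Algebra.EssFiniteType A B] [Algebra.EssFiniteType A C] [Module.Flat B C]
    [Algebra.FormallyUnramified A C] : Algebra.FormallyUnramified A B := by
  haveI : IsLocalHom (algebraMap A C) := by rw [IsScalarTower.algebraMap_eq A B C]; exact RingHom.isLocalHom_comp _ _
  haveI : Module.FaithfullyFlat B C := Module.FaithfullyFlat.of_flat_of_isLocalHom
  have hm := Algebra.FormallyUnramified.map_maximalIdeal (R := A) (S := C)
  have h1 : (IsLocalRing.maximalIdeal A).map (algebraMap A B) = IsLocalRing.maximalIdeal B := by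
    refine le_antisymm (((IsLocalRing.local_hom_TFAE (algebraMap A B)).out 0 2 rfl rfl).mp ‹_›) ?_
    rw [← Ideal.comap_map_eq_self_of_faithfullyFlat (B := C) ((IsLocalRing.maximalIdeal A).map (algebraMap A B)),
      Ideal.map_map, ← IsScalarTower.algebraMap_eq A B C, hm]
    intro b hb
    rw [Ideal.mem_comap]
    exact map_nonunit (algebraMap B C) b hb
  haveI : IsScalarTower (IsLocalRing.ResidueField A) (IsLocalRing.ResidueField B) (IsLocalRing.ResidueField C) :=
    IsScalarTower.of_algebraMap_eq fun z => by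
      obtain ⟨z, rfl⟩ := IsLocalRing.residue_surjective z
      exact congrArg (IsLocalRing.residue C) (IsScalarTower.algebraMap_apply A B C z)
  haveI : Algebra.IsSeparable (IsLocalRing.ResidueField A) (IsLocalRing.ResidueField B) :=
    Algebra.isSeparable_tower_bot_of_isSeparable _ _ (IsLocalRing.ResidueField C)
  exact Algebra.FormallyUnramified.of_map_maximalIdeal h1

end Groth.Agent.FlatLocal
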