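import Groth.Agent.FlatCrit.Inj
import Mathlib.AlgebraicGeometry.Morphisms.Flat
import Mathlib.AlgebraicGeometry.Morphisms.FormallyUnramified

/-!
# Properties descending along arbitrary flat surjective morphisms into the source
-/

set_option autoImplicit false
universe u

namespace Groth.Agent.FlatLocal

open CategoryTheory Limits AlgebraicGeometry

/-- Flatness descends along a flat surjection on the source (no quasi-compactness). -/
theorem flat_of_comp {T X Y : Scheme.{u}} (q : T ⟶ X) (f : X ⟶ Y) [Flat q] [Surjective q]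
    [Flat (q ≫ f)] : Flat f := by
  refine Flat.of_stalkMap f fun x ↦ ?_
  obtain ⟨t, rfl⟩ := q.surjective x
  have h := Flat.stalkMap (q ≫ f) t
  rw [Scheme.Hom.stalkMap_comp] at h
  algebraize [(f.stalkMap (q t)).hom, (q.stalkMap t).hom,
    ((q.stalkMap t).hom.comp (f.stalkMap (q t)).hom)]
  have : Module.Flat (X.presheaf.stalk (q t)) (T.presheaf.stalk t) := Flat.stalkMap q t
  have : IsLocalHom (algebraMap (X.presheaf.stalk (q t)) (T.presheaf.stalk t)) := q.toLRSHom.prop t
  have : Module.FaithfullyFlat (X.presheaf.stalk (q t)) (T.presheaf.stalk t) :=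
    Module.FaithfullyFlat.of_flat_of_isLocalHom
  haveI : Module.Flat (Y.presheaf.stalk (f (q t))) (T.presheaf.stalk t) := h
  exact Groth.Agent.FlatCrit.flat_of_flat_of_faithfullyFlat (M := T.presheaf.stalk t)

end Groth.Agent.FlatLocal
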