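import Groth.Agent.Desc19b.Source
import Groth.Agent.Props12.Stalks

/-!
# Flatness at a point: base change and descent
-/

set_option autoImplicit false
set_option linter.style.haveILetI false
set_option backward.isDefEq.respectTransparency.types false
universe u

namespace Groth.Agent.FlatLocal
open CategoryTheory CategoryTheory.Limits AlgebraicGeometry

/-- If `g` is flat at the image of `x'`, then the base change of `g` is flat at `x'`. -/
theorem flat_stalkMap_fst {X Y Y' : Scheme.{u}} (f : X ⟶ Y) (g : Y' ⟶ Y) (x' : ↑(pullback f g))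
    (hg : (g.stalkMap (pullback.snd f g x')).hom.Flat) : ((pullback.fst f g).stalkMap x').hom.Flat := by
  set y' := pullback.snd f g x' with hy'
  haveI := Props12.flat_fromSpecStalk (g y')
  haveI := Props12.flat_fromSpecStalk y'
  haveI : Flat (Spec.map (g.stalkMap y') ≫ Y.fromSpecStalk (g y')) :=
    have : Flat (Spec.map (g.stalkMap y')) := HasRingHomProperty.Spec_iff.mpr hg
    inferInstance
  let j := Y'.fromSpecStalk y'
  haveI : Flat (j ≫ g) := by rw [← Scheme.SpecMap_stalkMap_fromSpecStalk]; infer_instance
  let m := pullback.fst (pullback.snd f g) j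
  haveI : Flat (m ≫ pullback.fst f g) := by
    have H : IsPullback (m ≫ pullback.fst f g) (pullback.snd (pullback.snd f g) j) f (j ≫ g) :=
      (IsPullback.of_hasPullback _ _).paste_horiz (IsPullback.of_hasPullback f g)
    rw [show m ≫ pullback.fst f g = H.isoPullback.hom ≫ pullback.fst f (j ≫ g) from H.isoPullback_hom_fst.symm]
    infer_instance
  obtain ⟨t, ht, -⟩ := Scheme.Pullback.exists_preimage_pullback (f := pullback.snd f g) (g := j) x'
    (IsLocalRing.closedPoint (Y'.presheaf.stalk y')) (Scheme.fromSpecStalk_closedPoint).symm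
  have hm : (m.stalkMap t).hom.Flat := Flat.stalkMap m t
  have := (Desc19b.flat_stalkMap_comp_iff m (pullback.fst f g) t hm).mp (Flat.stalkMap (m ≫ pullback.fst f g) t)
  have e : m t = x' := ht
  exact e ▸ this

/-- Flatness at a point descends along a base change which is flat there. -/
theorem flat_stalkMap_of_baseChange {X Y Y' : Scheme.{u}} (f : X ⟶ Y) (g : Y' ⟶ Y) (x' : ↑(pullback f g))
    (hg : (g.stalkMap (pullback.snd f g x')).hom.Flat) (h : ((pullback.snd f g).stalkMap x').hom.Flat) :
    (f.stalkMap (pullback.fst f g x')).hom.Flat := by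
  refine (Desc19b.flat_stalkMap_comp_iff _ f x' (flat_stalkMap_fst f g x' hg)).mp ?_
  have h2 := (Desc19b.flat_stalkMap_comp_iff _ g x' h).mpr hg
  have : ∀ (a b : pullback f g ⟶ Y), a = b → (a.stalkMap x').hom.Flat → (b.stalkMap x').hom.Flat := by
    rintro a b rfl hh; exact hh
  exact this _ _ pullback.condition.symm h2

end Groth.Agent.FlatLocal
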