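import Groth.Agent.FlatLocal.StalkCrit
import Groth.Agent.Props12.Stalks
import Mathlib.RingTheory.Ideal.IdempotentFG
import Mathlib.RingTheory.Kaehler.Basic

/-!
# Unramifiedness and fibres; flatness over an unramified algebra
-/

set_option autoImplicit false
set_option backward.isDefEq.respectTransparency.types false
universe u

namespace Groth.Agent.FlatLocal

open CategoryTheory AlgebraicGeometry TensorProduct IsLocalRing

/-- Unramifiedness of local homomorphisms may be tested modulo an ideal coming from the base. -/
theorem formallyUnramified_iff_of_square {A B A' B' : Type u} [CommRing A] [CommRing B] [CommRing A']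
    [CommRing B'] [IsLocalRing A] [IsLocalRing B] [IsLocalRing A'] [IsLocalRing B']
    [Algebra A B] [Algebra A' B'] [IsLocalHom (algebraMap A B)] [IsLocalHom (algebraMap A' B')]
    [Algebra.EssFiniteType A B] [Algebra.EssFiniteType A' B']
    (p : A →+* A') (q : B →+* B') (hp : Function.Surjective p) (hq : Function.Surjective q)
    (hw : ∀ a, q (algebraMap A B a) = algebraMap A' B' (p a))
    (hker : RingHom.ker q ≤ (maximalIdeal A).map (algebraMap A B)) :
    Algebra.FormallyUnramified A B ↔ Algebra.FormallyUnramified A' B' := by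
  letI := p.toAlgebra
  letI := q.toAlgebra
  letI : Algebra A B' := (q.comp (algebraMap A B)).toAlgebra
  haveI : IsScalarTower A B B' := IsScalarTower.of_algebraMap_eq' rfl
  haveI : IsScalarTower A A' B' := IsScalarTower.of_algebraMap_eq hw
  haveI : IsLocalHom p := IsLocalHom.of_surjective p hp
  haveI : IsLocalHom (algebraMap A A') := ‹IsLocalHom p›
  haveI : IsLocalHom q := IsLocalHom.of_surjective q hq
  haveI : IsLocalHom (algebraMap B B') := ‹IsLocalHom q›
  haveI : IsLocalHom (algebraMap A B') := by rw [IsScalarTower.algebraMap_eq A B B']; exact RingHom.isLocalHom_comp _ _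
  haveI : Algebra.FormallyUnramified A A' := Algebra.FormallyUnramified.of_surjective (Algebra.ofId A A') hp
  haveI : Algebra.FormallyUnramified B B' := Algebra.FormallyUnramified.of_surjective (Algebra.ofId B B') hq
  constructor
  · intro h
    haveI : Algebra.FormallyUnramified A B' := .comp A B B'
    exact Algebra.FormallyUnramified.of_restrictScalars A A' B'
  · intro h
    haveI : Algebra.FormallyUnramified A B' := .comp A A' B'
    haveI : Algebra.EssFiniteType A B' := by
      haveI : Algebra.FiniteType B B' := Algebra.FiniteType.of_surjective (Algebra.ofId B B') hq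
      exact .comp A B B'
    obtain ⟨hs, hm⟩ := Algebra.FormallyUnramified.iff_map_maximalIdeal_eq.mp ‹Algebra.FormallyUnramified A B'›
    rw [Algebra.FormallyUnramified.iff_map_maximalIdeal_eq]
    constructor
    · haveI := hs
      haveI : IsScalarTower (ResidueField A) (ResidueField B) (ResidueField B') := IsScalarTower.of_algebraMap_eq fun z => by
        obtain ⟨z, rfl⟩ := residue_surjective z
        exact congrArg (residue B') (IsScalarTower.algebraMap_apply A B B' z)
      exact Algebra.isSeparable_tower_bot_of_isSeparable _ _ (ResidueField B')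
    · refine le_antisymm (((local_hom_TFAE (algebraMap A B)).out 0 2 rfl rfl).mp ‹_›) fun b hb => ?_
      have h1 : q b ∈ ((maximalIdeal A).map (algebraMap A B)).map q := by
        rw [Ideal.map_map]
        show q b ∈ (maximalIdeal A).map (algebraMap A B')
        rw [hm]
        exact map_nonunit q b hb
      obtain ⟨c, hc, hcb⟩ := (Ideal.mem_map_iff_of_surjective q hq).mp h1
      have : b - c ∈ RingHom.ker q := by rw [RingHom.mem_ker, map_sub, hcb, sub_self]
      simpa using add_mem (hker this) hc

theorem isIso_stalkSpecializes_of_eq {X : Scheme.{u}} {a b : X} (h : a = b) :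
    IsIso (X.presheaf.stalkSpecializes (specializes_of_eq h)) := by
  subst h
  rw [TopCat.Presheaf.stalkSpecializes_refl]
  infer_instance

/-- The stalk version, along a commutative square. -/
theorem formallyUnramified_stalkMap_iff_of_square {X Y X' Y' : Scheme.{u}} (f : X ⟶ Y) [LocallyOfFiniteType f]
    (f' : X' ⟶ Y') [LocallyOfFiniteType f'] (i : X' ⟶ X) (j : Y' ⟶ Y) (sq : i ≫ f = f' ≫ j) (x' : X')
    (hi : Function.Surjective (i.stalkMap x').hom) (hj : Function.Surjective (j.stalkMap (f' x')).hom)
    (hker : RingHom.ker (i.stalkMap x').hom ≤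
      (maximalIdeal (Y.presheaf.stalk (f (i x')))).map (f.stalkMap (i x')).hom) :
    (f.stalkMap (i x')).hom.FormallyUnramified ↔ (f'.stalkMap x').hom.FormallyUnramified := by
  have hy : f (i x') = j (f' x') := congr($sq x')
  let p := Y.presheaf.stalkSpecializes (specializes_of_eq hy.symm) ≫ j.stalkMap (f' x')
  have hp : Function.Surjective p.hom := by
    haveI : IsIso (Y.presheaf.stalkSpecializes (specializes_of_eq hy.symm)) := isIso_stalkSpecializes_of_eq hy.symm
    exact hj.comp (ConcreteCategory.bijective_of_isIso (Y.presheaf.stalkSpecializes (specializes_of_eq hy.symm))).2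
  have hw : f.stalkMap (i x') ≫ i.stalkMap x' = p ≫ f'.stalkMap x' := by
    rw [← Scheme.Hom.stalkMap_comp, Category.assoc, ← Scheme.Hom.stalkMap_comp, Scheme.Hom.stalkMap_congr_hom _ _ sq x']
    simp
  have e1 := LocallyOfFiniteType.stalkMap f (i x')
  have e2 := LocallyOfFiniteType.stalkMap f' x'
  algebraize [(f.stalkMap (i x')).hom, (f'.stalkMap x').hom]
  haveI : IsLocalHom (algebraMap (Y.presheaf.stalk (f (i x'))) (X.presheaf.stalk (i x'))) := f.toLRSHom.prop _
  haveI : IsLocalHom (algebraMap (Y'.presheaf.stalk (f' x')) (X'.presheaf.stalk x')) := f'.toLRSHom.prop _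
  exact formallyUnramified_iff_of_square p.hom (i.stalkMap x').hom hp hi
    (fun a => congr($hw a)) hker

/-- Over an unramified algebra, modules that are flat over the base are flat. -/
theorem flat_of_flat_of_unramified {A B C : Type u} [CommRing A] [CommRing B] [CommRing C] [Algebra A B]
    [Algebra B C] [Algebra A C] [IsScalarTower A B C] [Algebra.EssFiniteType A B]
    [Algebra.FormallyUnramified A B] [Module.Flat A C] : Module.Flat B C := by
  obtain ⟨e, he, hI⟩ := (Ideal.isIdempotentElem_iff_of_fg _ (KaehlerDifferential.ideal_fg A B)).mp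
    ((Ideal.cotangent_subsingleton_iff _).mp (inferInstanceAs <| Subsingleton Ω[B⁄A]))
  let ι : B ⊗[A] B →ₐ[A] B ⊗[A] C :=
    Algebra.TensorProduct.map (AlgHom.id A B) (IsScalarTower.toAlgHom A B C)
  let μ : B ⊗[A] C →ₐ[A] C := Algebra.TensorProduct.lift (IsScalarTower.toAlgHom A B C) (AlgHom.id A C)
    fun _ _ => Commute.all _ _
  have hμι : ∀ z, μ (ι z) = algebraMap B C (Algebra.TensorProduct.lmul' A (S := B) z) := fun z => by
    induction z with
    | zero => simp
    | tmul a b => simp [μ, ι]
    | add a b ha hb => simp [ha, hb]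
  have hmem : ∀ b : B, b ⊗ₜ[A] (1 : B) - 1 ⊗ₜ b ∈ KaehlerDifferential.ideal A B := fun b => by
    simp [KaehlerDifferential.ideal, RingHom.mem_ker]
  have heI : e ∈ KaehlerDifferential.ideal A B := hI ▸ Ideal.mem_span_singleton_self e
  have hkey : ∀ b : B, ι (1 - e) * (b ⊗ₜ[A] (1 : C)) = ι (1 - e) * (1 ⊗ₜ algebraMap B C b) := fun b => by
    obtain ⟨d, hd⟩ := Ideal.mem_span_singleton'.mp (hI ▸ hmem b)
    have : (1 - e) * (b ⊗ₜ[A] (1 : B) - 1 ⊗ₜ b) = 0 := by
      rw [← hd, sub_mul, one_mul, ← mul_assoc, mul_comm e d, mul_assoc, he.eq, sub_self]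
    simpa [ι, mul_sub, sub_eq_zero] using congrArg ι this
  let s : C →ₗ[B] B ⊗[A] C :=
    { toFun := fun c => ι (1 - e) * (1 ⊗ₜ c)
      map_add' := fun c d => by rw [TensorProduct.tmul_add, mul_add]
      map_smul' := fun b c => by
        rw [RingHom.id_apply, Algebra.smul_def b c, Algebra.smul_def b (ι (1 - e) * (1 ⊗ₜ c)),
          Algebra.TensorProduct.algebraMap_apply, Algebra.algebraMap_self, RingHom.id_apply,
          ← mul_assoc, mul_comm _ (ι (1 - e)), hkey, mul_assoc, Algebra.TensorProduct.tmul_mul_tmul, one_mul] }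
  let r : B ⊗[A] C →ₗ[B] C :=
    { μ.toLinearMap with
      map_smul' := fun b z => by
        show μ (b • z) = b • μ z
        rw [Algebra.smul_def, Algebra.smul_def, map_mul]
        simp [μ] }
  haveI : Module.Flat B (B ⊗[A] C) := inferInstance
  refine Module.Flat.of_retract s r (LinearMap.ext fun c => ?_)
  show μ (ι (1 - e) * (1 ⊗ₜ c)) = c
  rw [map_mul, hμι, map_sub, map_one, (RingHom.mem_ker.mp heI : Algebra.TensorProduct.lmul' A (S := B) e = 0)]
  simp [μ]

end Groth.Agent.FlatLocal
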