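import Mathlib.AlgebraicGeometry.Fiber
import Mathlib.CategoryTheory.Limits.Shapes.Pullback.Pasting
import Groth.Prelude

/-!
# The map of fibres as a base change
-/

set_option autoImplicit false
set_option backward.isDefEq.respectTransparency.types false
universe u

namespace Groth.Agent.FlatLocal

open CategoryTheory CategoryTheory.Limits AlgebraicGeometry

theorem fiberMapOver_eq {X Y S : Scheme.{u}} (f : X ⟶ Y) (g : Y ⟶ S) (s : S) :
    (pullbackRightPullbackFstIso g (S.fromSpecResidueField s) f).inv ≫
        pullback.snd f (pullback.fst g (S.fromSpecResidueField s)) = CohIII.fiberMapOver f (f ≫ g) g rfl s := by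
  apply pullback.hom_ext
  · rw [Category.assoc, ← pullback.condition, pullbackRightPullbackFstIso_inv_fst_assoc]
    exact (pullback.lift_fst _ _ _).symm
  · rw [Category.assoc, pullbackRightPullbackFstIso_inv_snd_snd]
    exact ((pullback.lift_snd _ _ _).trans (Category.comp_id _)).symm

theorem prop_fiberMapOver {P : MorphismProperty Scheme.{u}} [P.RespectsIso] {X Y S : Scheme.{u}} (f : X ⟶ Y) (g : Y ⟶ S)
    (s : S) (h : P (pullback.snd f (g.fiberι s))) : P (CohIII.fiberMapOver f (f ≫ g) g rfl s) := by
  rw [← fiberMapOver_eq f g s]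
  exact MorphismProperty.RespectsIso.precomp P _ _ h

end Groth.Agent.FlatLocal
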