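import Mathlib.RingTheory.Smooth.Fiber
import Mathlib.RingTheory.Etale.Locus
import Mathlib.RingTheory.Flat.Localization
import Mathlib.RingTheory.Localization.LocalizationLocalization
import Mathlib.RingTheory.Unramified.Locus

/-!
# Smooth and etale at a prime from flatness at that prime
-/

set_option autoImplicit false
universe u v

namespace Groth.Agent.FlatLocal

open Algebra TensorProduct IsLocalRing

variable {R : Type u} {S : Type v} [CommRing R] [CommRing S] [Algebra R S]

/-- Flat at `q` and formally smooth fibre imply smooth at `q`. -/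
theorem isSmoothAt_of_flatAt [Algebra.FinitePresentation R S] (p : Ideal R) (q : Ideal S)
    [p.IsPrime] [q.IsPrime] [q.LiesOver p] [Module.Flat R (Localization.AtPrime q)]
    [FormallySmooth p.ResidueField (p.Fiber S)] : Algebra.IsSmoothAt R q := by
  let Rp := Localization.AtPrime p
  let Sp := Localization (algebraMapSubmonoid S p.primeCompl)
  let Sq := Localization.AtPrime q
  let := Localization.AtPrime.algebraOfLiesOver p q
  let f : Sp →ₐ[S] Sq := IsLocalization.liftAlgHom (M := algebraMapSubmonoid S p.primeCompl)
        (f := Algebra.ofId _ _) (by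
      rintro ⟨_, x, hx, rfl⟩
      simpa using! IsLocalization.map_units (M := q.primeCompl) Sq ⟨algebraMap _ _ x,
        by simp_all [q.over_def p]⟩)
  algebraize [f.toRingHom]
  have : IsScalarTower R Sp Sq := .to₁₃₄ _ S _ _
  have : IsScalarTower Rp Sp Sq := .of_algebraMap_eq' <| by
    apply IsLocalization.ringHom_ext p.primeCompl
    simp only [RingHom.comp_assoc, ← IsScalarTower.algebraMap_eq]
  haveI : Module.Flat Rp Sq := (Module.flat_iff_of_isLocalization Rp p.primeCompl Sq).mpr ‹_›
  have : IsLocalization (algebraMapSubmonoid Sp q.primeCompl) Sq :=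
    .isLocalization_of_submonoid_le _ _ (algebraMapSubmonoid S p.primeCompl) _
    (by rintro _ ⟨x, hx, rfl⟩; simp_all [q.over_def p])
  have : FinitePresentation Rp Sp := by
    have : Algebra.IsPushout R Rp S Sp :=
      .symm <| Algebra.isPushout_of_isLocalization p.primeCompl _ _ _
    exact .equiv (Algebra.IsPushout.equiv R Rp S Sp)
  have : FormallySmooth (ResidueField Rp) ((ResidueField Rp) ⊗[Rp] Sq) := by
    let : Algebra S ((ResidueField Rp) ⊗[R] S) := Algebra.TensorProduct.rightAlgebra
    have : FormallySmooth (ResidueField Rp) (((ResidueField Rp) ⊗[R] S) ⊗[S] Sq) :=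
      .comp _ ((ResidueField Rp) ⊗[R] S) _
    let e : (ResidueField Rp) ⊗[R] S ≃ₐ[S] S ⊗[R] (ResidueField Rp) :=
      { __ := Algebra.TensorProduct.comm _ _ _, commutes' _ := rfl }
    let e' : ((ResidueField Rp) ⊗[R] S) ⊗[S] Sq ≃ₐ[R] (ResidueField Rp) ⊗[Rp] Sq :=
      ((Algebra.TensorProduct.comm _ _ _).restrictScalars R).trans <|
      ((Algebra.TensorProduct.congr (.refl (R := S)) e).restrictScalars R).trans <|
      ((Algebra.TensorProduct.cancelBaseChange _ _ S _ _).restrictScalars R).trans <|
      (Algebra.TensorProduct.comm _ _ _).trans (Algebra.TensorProduct.equivOfCompatibleSMul ..)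
    have : e'.toAlgHom.comp (IsScalarTower.toAlgHom R p.ResidueField _) =
        IsScalarTower.toAlgHom _ _ _ := by ext
    let e'' : ((ResidueField Rp) ⊗[R] S) ⊗[S] Sq ≃ₐ[(ResidueField Rp)] (ResidueField Rp) ⊗[Rp] Sq :=
      { __ := e', commutes' r := congr($this r) }
    exact .of_equiv e''
  have := Algebra.FormallySmooth.of_formallySmooth_residueField_tensor
    (R := Rp) (S := Sq) (P := Sp) (algebraMapSubmonoid _ q.primeCompl)
  exact .comp R Rp Sq


attribute [local instance] FormallyEtale.of_formallyUnramified_of_field in
/-- Flat at `q` and unramified at `q` imply etale at `q`, for finitely presented algebras. -/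
theorem isEtaleAt_of_flatAt [Algebra.FinitePresentation R S] (q : Ideal S) [q.IsPrime]
    [Algebra.IsUnramifiedAt R q] [Module.Flat R (Localization.AtPrime q)] : Algebra.IsEtaleAt R q := by
  obtain ⟨f, hfq, H⟩ := exists_unramified_of_isUnramifiedAt (R := R) q
  let S' := Localization.Away f
  haveI : Algebra.FinitePresentation S S' := IsLocalization.Away.finitePresentation f
  haveI : Algebra.FinitePresentation R S' := .trans R S S'
  let q' : Ideal S' := q.map (algebraMap S S')
  have hdisj : Disjoint (Submonoid.powers f : Set S) (q : Set S) := by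
    rw [Set.disjoint_left]
    rintro _ ⟨n, rfl⟩ h
    exact hfq (Ideal.IsPrime.mem_of_pow_mem ‹_› n h)
  haveI : q'.IsPrime := IsLocalization.isPrime_of_isPrime_disjoint (Submonoid.powers f) S' q ‹_› hdisj
  have hq : q'.comap (algebraMap S S') = q :=
    IsLocalization.under_map_of_isPrime_disjoint (Submonoid.powers f) S' ‹_› hdisj
  let T := Localization.AtPrime q'
  haveI h0 : IsLocalization.AtPrime T (q'.comap (algebraMap S S')) :=
    IsLocalization.isLocalization_isLocalization_atPrime_isLocalization (Submonoid.powers f) T q'
  haveI : IsLocalization.AtPrime T q := by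
    have hc : (q'.comap (algebraMap S S')).primeCompl = q.primeCompl := by ext z; simp [Ideal.primeCompl, hq]
    show IsLocalization q.primeCompl T
    rw [← hc]; exact h0
  let e : Localization.AtPrime q ≃ₐ[R] T :=
    (IsLocalization.algEquiv q.primeCompl (Localization.AtPrime q) T).restrictScalars R
  haveI : Module.Flat R T := Module.Flat.of_linearEquiv e.symm.toLinearEquiv
  haveI : Algebra.IsSmoothAt R q' := isSmoothAt_of_flatAt (q'.under R) q'
  haveI : Algebra.FormallySmooth R T := ‹Algebra.IsSmoothAt R q'›
  haveI : Algebra.FormallySmooth R (Localization.AtPrime q) := Algebra.FormallySmooth.of_equiv e.symm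
  exact Algebra.FormallyEtale.of_formallyUnramified_and_formallySmooth

end Groth.Agent.FlatLocal
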