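import Groth.Agent.FEtLib.EqLocus
import Mathlib.AlgebraicGeometry.Morphisms.FormallyUnramified
import Mathlib.AlgebraicGeometry.Morphisms.Etale
import Mathlib.AlgebraicGeometry.Morphisms.FinitePresentation

/-!
# Unramified near a point and the diagonal
-/

set_option autoImplicit false
set_option backward.isDefEq.respectTransparency.types false
universe u

namespace Groth.Agent.FlatLocal

open CategoryTheory CategoryTheory.Limits AlgebraicGeometry

/-- `U → X ×_Y X` is an open immersion iff `U → Y` is formally unramified. -/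
theorem isOpenImmersion_ι_diagonal_iff {X Y : Scheme.{u}} (f : X ⟶ Y) [LocallyOfFiniteType f] (U : X.Opens) :
    IsOpenImmersion (U.ι ≫ pullback.diagonal f) ↔ FormallyUnramified (U.ι ≫ f) := by
  let m := pullback.map (U.ι ≫ f) (U.ι ≫ f) f f U.ι U.ι (𝟙 Y) (by simp) (by simp)
  haveI : IsOpenImmersion m :=
    MorphismProperty.pullbackMap (P := @IsOpenImmersion) (i₁ := U.ι) (i₂ := U.ι) inferInstance inferInstance rfl rfl
  have e : U.ι ≫ pullback.diagonal f = pullback.diagonal (U.ι ≫ f) ≫ m := by
    apply pullback.hom_ext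
    · rw [Category.assoc, pullback.diagonal_fst, Category.comp_id, Category.assoc, pullback.lift_fst, pullback.diagonal_fst_assoc]
    · rw [Category.assoc, pullback.diagonal_snd, Category.comp_id, Category.assoc, pullback.lift_snd, pullback.diagonal_snd_assoc]
  rw [e]
  refine ⟨fun h => ?_, fun h => inferInstance⟩
  haveI := IsOpenImmersion.of_comp (pullback.diagonal (U.ι ≫ f)) m
  infer_instance

/-- Sections of an unramified morphism are local isomorphisms. -/
theorem isOpenImmersion_ι_section {P Y' : Scheme.{u}} (π : P ⟶ Y') (s : Y' ⟶ P) (hs : s ≫ π = 𝟙 Y')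
    (V : P.Opens) [FormallyUnramified (V.ι ≫ π)] [LocallyOfFiniteType (V.ι ≫ π)] :
    IsOpenImmersion ((s ⁻¹ᵁ V).ι ≫ s) := by
  rw [← morphismRestrict_ι]
  have h2 : (s ∣_ V) ≫ V.ι ≫ π = (s ⁻¹ᵁ V).ι := by rw [morphismRestrict_ι_assoc, hs, Category.comp_id]
  haveI : Etale ((s ∣_ V) ≫ V.ι ≫ π) := by rw [h2]; infer_instance
  haveI := Etale.of_comp (s ∣_ V) (V.ι ≫ π)
  haveI : Mono ((s ∣_ V) ≫ V.ι ≫ π) := by rw [h2]; infer_instance
  haveI := mono_of_mono (s ∣_ V) (V.ι ≫ π)
  haveI := FEtLib.isOpenImmersion_of_etale_universallyInjective (s ∣_ V)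
  infer_instance

end Groth.Agent.FlatLocal
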