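import Mathlib.AlgebraicGeometry.Morphisms.QuasiFinite
import Mathlib.AlgebraicGeometry.Morphisms.UniversallyOpen
import Mathlib.Topology.Sober

/-!
# Maximal points and flat locally quasi-finite morphisms
-/

set_option autoImplicit false
universe u

namespace Groth.Agent.FlatLocal

open CategoryTheory AlgebraicGeometry

/-- A point with no proper generalization. -/
def IsMaxPt {α : Type*} [TopologicalSpace α] (x : α) : Prop := ∀ z : α, z ⤳ x → z = x

theorem isMaxPt_iff {α : Type*} [TopologicalSpace α] [QuasiSober α] [T0Space α] (x : α) :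
    IsMaxPt x ↔ closure ({x} : Set α) ∈ irreducibleComponents α := by
  constructor
  · refine fun h => ⟨isIrreducible_singleton.closure, fun S hS hle => ?_⟩
    have hgen := hS.isGenericPoint_genericPoint_closure
    have := h _ (hgen.specializes (subset_closure (hle (subset_closure rfl))))
    rw [← this, hgen.def]
    exact subset_closure
  · intro h z hz
    have hle : closure ({x} : Set α) ⊆ closure {z} :=
      closure_minimal (Set.singleton_subset_iff.mpr hz.mem_closure) isClosed_closure
    exact (isGenericPoint_closure.eq ((isGenericPoint_def).mpr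
      (subset_antisymm (h.2 isIrreducible_singleton.closure hle) hle))).symm

theorem isMaxPt_of_flat {X Y : Scheme.{u}} (f : X ⟶ Y) [Flat f] {x : X} (hx : IsMaxPt x) :
    IsMaxPt (f x) := by
  intro y hy
  obtain ⟨z, hz, rfl⟩ := Flat.generalizingMap f hy
  rw [hx z hz]

theorem isMaxPt_of_quasiFinite {X Y : Scheme.{u}} (f : X ⟶ Y) [LocallyQuasiFinite f] {x : X}
    (hx : IsMaxPt (f x)) : IsMaxPt x := by
  intro z hz
  have he : f z = f x := hx _ (hz.map f.continuous)
  haveI := (f.isDiscrete_preimage_singleton (f x)).to_subtype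
  have h2 : (⟨z, he⟩ : ↥(f ⁻¹' {f x})) ⤳ ⟨x, rfl⟩ :=
    (Topology.IsInducing.subtypeVal.specializes_iff).mp hz
  exact congrArg Subtype.val h2.eq

end Groth.Agent.FlatLocal
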