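import Mathlib.Algebra.TrivSqZeroExt.Basic
import Mathlib.RingTheory.LocalRing.Basic
import Mathlib.RingTheory.Kaehler.Basic

/-!
# Unramifiedness from uniqueness of lifts to local square-zero extensions
-/

set_option autoImplicit false
universe u

namespace Groth.Agent.FlatLocal

/-- If lifts along square-zero surjections of local rings are unique, then `Ω[S⁄A] = 0` for local `S`. -/
theorem subsingleton_omega_of_unique_local_lifts (A S : Type u) [CommRing A] [CommRing S] [Algebra A S]
    [IsLocalRing S]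
    (H : ∀ (B' : Type u) [CommRing B'] [IsLocalRing B'] [Algebra A B'] (π : B' →ₐ[A] S),
      Function.Surjective π → RingHom.ker π.toRingHom ^ 2 = ⊥ →
        ∀ g₁ g₂ : S →ₐ[A] B', π.comp g₁ = AlgHom.id A S → π.comp g₂ = AlgHom.id A S → g₁ = g₂) :
    Subsingleton Ω[S⁄A] := by
  let M := Ω[S⁄A]
  letI : Module Sᵐᵒᵖ M := Module.compHom M ((RingHom.id S).fromOpposite mul_comm)
  haveI : IsCentralScalar S M := ⟨fun r m => rfl⟩
  haveI : Nontrivial (TrivSqZeroExt S M) := ⟨⟨TrivSqZeroExt.inl 0, TrivSqZeroExt.inl 1, fun h => zero_ne_one (α := S) (congrArg TrivSqZeroExt.fst h)⟩⟩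
  haveI : IsLocalRing (TrivSqZeroExt S M) := IsLocalRing.of_isUnit_or_isUnit_one_sub_self fun a => by
    rcases IsLocalRing.isUnit_or_isUnit_one_sub_self a.fst with h | h
    · exact Or.inl (TrivSqZeroExt.isUnit_iff_isUnit_fst.mpr h)
    · exact Or.inr (TrivSqZeroExt.isUnit_iff_isUnit_fst.mpr h)
  let π : (TrivSqZeroExt S M) →ₐ[A] S := (TrivSqZeroExt.fstHom A S M)
  have hker : RingHom.ker π.toRingHom ^ 2 = ⊥ := by
    rw [pow_two, eq_bot_iff, Ideal.mul_le]
    intro a (ha : a.fst = 0) b (hb : b.fst = 0)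
    rw [Ideal.mem_bot]
    ext
    · simp [ha]
    · simp [ha, hb]
  let D := KaehlerDifferential.D A S
  let g₁ : S →ₐ[A] (TrivSqZeroExt S M) := IsScalarTower.toAlgHom A S (TrivSqZeroExt S M)
  let g₂ : S →ₐ[A] (TrivSqZeroExt S M) :=
    { toFun := fun s => TrivSqZeroExt.inl s + TrivSqZeroExt.inr (D s)
      map_one' := by ext <;> simp
      map_mul' := fun a b => by
        ext
        · simp
        · simp [op_smul_eq_smul]

      map_zero' := by ext <;> simp
      map_add' := fun a b => by ext <;> simp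
      commutes' := fun a => by ext <;> simp [TrivSqZeroExt.algebraMap_eq_inl'] }
  have he := H (TrivSqZeroExt S M) π (fun s => ⟨TrivSqZeroExt.inl s, rfl⟩) hker g₁ g₂ (AlgHom.ext fun s => rfl)
    (AlgHom.ext fun s => by simp [π, g₂])
  have hD : D = 0 := Derivation.ext fun s => by
    have := congrArg TrivSqZeroExt.snd (DFunLike.congr_fun he s)
    simpa [g₁, g₂, TrivSqZeroExt.algebraMap_eq_inl'] using this.symm
  refine subsingleton_of_forall_eq 0 fun m => ?_
  have hm : m ∈ (⊤ : Submodule S M) := trivial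
  rw [← KaehlerDifferential.span_range_derivation A S] at hm
  have hle : Submodule.span S (Set.range D) ≤ ⊥ := by
    rw [Submodule.span_le]; rintro _ ⟨s, rfl⟩; simp [hD]
  exact hle hm

end Groth.Agent.FlatLocal
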